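import Cfsg.Agent.H94.RG.Transf
import Cfsg.Agent.H262.Rx.Bridge
import Cfsg.Agent.H278.ElCrossIface
import Cfsg.Agent.H262.Rg.Fam

/-!
# S5715 in unbounded rank: counting

* `pairs_le` : the pairs `(x, y)` such that `⟨x⟩` contains a conjugate of `Z` and `⟨x, y x y⁻¹⟩` misses a normal set `A` are
  at most `|T|` times the number of `x` such that `x Z` misses `A`;
* `missC_le` : `missC T ≤ (ε + 2 n w κ) |T|²` from `NF n w T` and `CMix T κ ε`;
* `uc` : `UC IsCl` from `FamNF BigCl` and `LargeC BigCl`.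
-/

set_option autoImplicit false
set_option linter.unusedSectionVars false

namespace Cfsg.Agent.H94.RG.U

open Module Cfsg Cfsg.Agent.H50.RG Cfsg.Agent.OrdDiv Cfsg.Agent.H436 Subgroup
open Cfsg.Agent.H262.Rg.Engine Cfsg.Agent.H262.Rg.Asm Cfsg.Agent.H262.Rg.Bridge Cfsg.Agent.H262.Rg.Fam
open Cfsg.Agent.H262.Rx (missC UC rk)
open Cfsg.Agent.H141.Rg (NF FamNF CInv)
open Cfsg.Agent.H278.El.AltNum (dimOf)
open Cfsg.Agent.H851.Dg (BigCl)
open Cfsg.Agent.H858.RG (fixd_top_eq_bot sum_character)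

universe u

section One

variable {T : Type u} [Group T] [Finite T]

/-- the pairs `(x, y)` such that `⟨x⟩` contains a conjugate of `Z` and `⟨x, y x y⁻¹⟩` misses `A` -/
theorem pairs_le {A : Set T} (hA : Normal A) (Z : Subgroup T) :
    Nat.card {p : T × T // (∃ g : T, ∀ z ∈ Z, g * z * g⁻¹ ∈ zpowers p.1) ∧
      ∀ w ∈ closure {p.1, p.2 * p.1 * p.2⁻¹}, w ∉ A} ≤ Nat.card T * Nat.card {x : T // ∀ t ∈ Z, x * t ∉ A} := by
  classical
  let h : T → T := fun x => if hx : ∃ g : T, ∀ z ∈ Z, g * z * g⁻¹ ∈ zpowers x then hx.choose else 1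
  have hh : ∀ x, (∃ g : T, ∀ z ∈ Z, g * z * g⁻¹ ∈ zpowers x) → ∀ z ∈ Z, h x * z * (h x)⁻¹ ∈ zpowers x := by
    intro x hx
    simp only [h, dif_pos hx]
    exact hx.choose_spec
  rw [← Nat.card_prod]
  refine Nat.card_le_card_of_injective (fun p => ((h p.1.1)⁻¹ * p.1.2,
    ⟨((h p.1.1)⁻¹ * p.1.2) * p.1.1 * ((h p.1.1)⁻¹ * p.1.2)⁻¹, fun t ht hmem => ?_⟩)) ?_
  · obtain ⟨⟨x, y⟩, hx, hcl⟩ := p
    have h1 := hA _ hmem (h x)
    refine hcl _ ?_ h1
    have e : h x * (((h x)⁻¹ * y) * x * ((h x)⁻¹ * y)⁻¹ * t) * (h x)⁻¹ = (y * x * y⁻¹) * (h x * t * (h x)⁻¹) := by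
      group
    rw [show h x * ((h (x, y).1)⁻¹ * (x, y).2 * (x, y).1 * ((h (x, y).1)⁻¹ * (x, y).2)⁻¹ * t) * (h x)⁻¹ =
      (y * x * y⁻¹) * (h x * t * (h x)⁻¹) from e]
    refine mul_mem (subset_closure (by simp)) ?_
    exact (zpowers_le.2 (subset_closure (by simp))) (hh x hx t ht)
  · rintro ⟨⟨x, y⟩, hx, hcl⟩ ⟨⟨x', y'⟩, hx', hcl'⟩ heq
    have e1 : (h x)⁻¹ * y = (h x')⁻¹ * y' := congrArg Prod.fst heq
    have e2 : ((h x)⁻¹ * y) * x * ((h x)⁻¹ * y)⁻¹ = ((h x')⁻¹ * y') * x' * ((h x')⁻¹ * y')⁻¹ :=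
      congrArg (fun q => (q.2 : T)) heq
    rw [← e1] at e2
    have e3 : x = x' := by
      have := mul_right_cancel e2
      exact mul_left_cancel this
    subst e3
    have e4 : y = y' := mul_left_cancel e1
    subst e4
    rfl

/-- the bound for the missing cosets -/
theorem miss_le [Fintype T] {A : Set T} (hA : Normal A) {w : ℝ} (hw : 0 < w) (hd : (Nat.card T : ℝ) ≤ w * Nat.card A)
    (Z : Subgroup T) {R : ℝ} (hR : 0 < R)
    (hZ : ∀ (n : ℕ) (ρ : Representation ℂ T (Fin n → ℂ)), fixd ρ ⊤ = ⊥ → R * finrank ℂ (fixd ρ Z) ≤ 2 * n) :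
    (Nat.card {x : T // ∀ t ∈ Z, x * t ∉ A} : ℝ) ≤ Nat.card T * (w * (2 * (1 / R))) := by
  classical
  have h1 := card_miss_subgroup_le hA Z (β := 2 * (1 / R)) (by positivity) (by
    rintro χ ⟨n, ρ, hρ, rfl⟩ hne
    have h0 := fixd_top_eq_bot ρ hρ hne
    have h1 := hZ n ρ h0
    have hone : ρ.character 1 = (n : ℂ) := by
      rw [Representation.char_one, finrank_fin_fun]
    have hn : (n : ℂ) ≠ 0 := by
      rw [← hone]
      exact Cfsg.Agent.Characters.Core.isIrr_apply_one_ne_zero ⟨n, ρ, hρ, rfl⟩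
    have hn' : (0 : ℝ) < n := by
      have : n ≠ 0 := by exact_mod_cast hn
      exact_mod_cast Nat.pos_of_ne_zero this
    have h2 := sum_character ρ Z
    have h3 : ∑ t : Z, (ρ.character (t : T) / ρ.character 1).re = Nat.card Z * finrank ℂ (fixd ρ Z) / n := by
      have e3 : ∑ t ∈ (Set.toFinite (Z : Set T)).toFinset, (ρ.character t / ρ.character 1).re =
          ∑ t : Z, (ρ.character (t : T) / ρ.character 1).re := by
        rw [← Finset.sum_coe_sort (Set.toFinite (Z : Set T)).toFinset (fun t => (ρ.character t / ρ.character 1).re)]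
        refine Fintype.sum_equiv (Equiv.subtypeEquivRight fun t => by simp) _ _ fun t => rfl
      rw [← e3, ← Complex.re_sum, ← Finset.sum_div, h2, hone]
      have : ((Nat.card Z : ℂ) * finrank ℂ (fixd ρ Z) / n) =
        (((Nat.card Z : ℝ) * finrank ℂ (fixd ρ Z) / n : ℝ) : ℂ) := by
        push_cast
        rfl
      rw [this, Complex.ofReal_re]
    rw [h3, ← Nat.card_eq_fintype_card]
    have h4 : (finrank ℂ (fixd ρ Z) : ℝ) / n ≤ 2 * (1 / R) := by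
      rw [mul_one_div, div_le_div_iff₀ hn' hR]
      linarith
    have h5 : (0 : ℝ) ≤ Nat.card Z := Nat.cast_nonneg _
    rw [mul_div_assoc, mul_comm (2 * (1 / R))]
    exact mul_le_mul_of_nonneg_left h4 h5)
  have h2 := (mul_le_mul_of_nonneg_left (inv_le_dens hw hd) (Nat.cast_nonneg _)).trans h1
  rw [mul_one_div, div_le_iff₀ hw] at h2
  linarith

/-- **Few pairs `(x, y x y⁻¹)` do not generate.** -/
theorem missC_le {n : ℕ} {w κ ε : ℝ} (hw : 0 < w) (hNF : NF n w T) (hC : CMix T κ ε) :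
    (missC T : ℝ) ≤ (ε + n * (w * (2 * κ))) * (Nat.card T : ℝ) ^ 2 := by
  classical
  have := Fintype.ofFinite T
  obtain ⟨E, hE1, hE2, hE3⟩ := hNF
  obtain ⟨ι, hι, Z, R, hR, hκ, hZ, hbad⟩ := hC
  have hE1' : ∀ i, Normal (E i) := fun i g hg x => hE1 i g hg x
  have hG : (0 : ℝ) < Nat.card T := by exact_mod_cast Nat.card_pos
  let P : T → Prop := fun y => ∃ (i : ι) (g : T), ∀ z ∈ Z i, g * z * g⁻¹ ∈ zpowers y
  have h1 : missC T ≤ Nat.card {y : T // ¬ P y} * Nat.card T +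
      ∑ i : Fin n, ∑ j : ι, Nat.card {p : T × T // (∃ g : T, ∀ z ∈ Z j, g * z * g⁻¹ ∈ zpowers p.1) ∧
        ∀ w ∈ closure {p.1, p.2 * p.1 * p.2⁻¹}, w ∉ E i} := by
    have e1 : ∑ i : Fin n, ∑ j : ι, Nat.card {p : T × T // (∃ g : T, ∀ z ∈ Z j, g * z * g⁻¹ ∈ zpowers p.1) ∧
        ∀ w ∈ closure {p.1, p.2 * p.1 * p.2⁻¹}, w ∉ E i} =
        Nat.card (Σ i : Fin n, Σ j : ι, {p : T × T // (∃ g : T, ∀ z ∈ Z j, g * z * g⁻¹ ∈ zpowers p.1) ∧
        ∀ w ∈ closure {p.1, p.2 * p.1 * p.2⁻¹}, w ∉ E i}) := by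
      rw [Nat.card_sigma]
      refine Finset.sum_congr rfl fun i _ => ?_
      rw [Nat.card_sigma]
    rw [e1, ← Nat.card_prod, ← Nat.card_sum]
    have hch : ∀ p : {p : T × T // closure {p.1, p.2 * p.1 * p.2⁻¹} ≠ ⊤}, ∃ i : Fin n,
        ∀ z ∈ closure {p.1.1, p.1.2 * p.1.1 * p.1.2⁻¹}, z ∉ E i := fun p => hE3 _ p.2
    choose f hf using hch
    unfold missC
    refine Nat.card_le_card_of_injective (fun p : {p : T × T // closure {p.1, p.2 * p.1 * p.2⁻¹} ≠ ⊤} =>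
      if h : P p.1.1 then Sum.inr ⟨f p, h.choose, p.1, h.choose_spec, hf p⟩ else Sum.inl (⟨p.1.1, h⟩, p.1.2)) ?_
    intro p p' h
    apply Subtype.ext
    by_cases h2 : P p.1.1 <;> by_cases h3 : P p'.1.1
    · simp only [h2, h3, dif_pos] at h
      exact congrArg (fun x : Σ i : Fin n, Σ j : ι, {p : T × T // (∃ g : T, ∀ z ∈ Z j, g * z * g⁻¹ ∈ zpowers p.1) ∧
        ∀ w ∈ closure {p.1, p.2 * p.1 * p.2⁻¹}, w ∉ E i} => x.2.2.1) (Sum.inr_injective h)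
    · simp [h2, h3] at h
    · simp [h2, h3] at h
    · simp only [h2, h3, dif_neg, not_false_iff] at h
      have h4 := Sum.inl_injective h
      have h5 : p.1.1 = p'.1.1 := congrArg (fun x : {y : T // ¬ P y} × T => (x.1 : T)) h4
      have h6 : p.1.2 = p'.1.2 := congrArg (fun x : {y : T // ¬ P y} × T => x.2) h4
      exact Prod.ext h5 h6
  have h2 : (missC T : ℝ) ≤ Nat.card {y : T // ¬ P y} * Nat.card T +
      ∑ i : Fin n, ∑ j : ι, (Nat.card {p : T × T // (∃ g : T, ∀ z ∈ Z j, g * z * g⁻¹ ∈ zpowers p.1) ∧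
        ∀ w ∈ closure {p.1, p.2 * p.1 * p.2⁻¹}, w ∉ E i} : ℝ) := by exact_mod_cast h1
  have h3 : ∀ (i : Fin n) (j : ι), (Nat.card {p : T × T // (∃ g : T, ∀ z ∈ Z j, g * z * g⁻¹ ∈ zpowers p.1) ∧
        ∀ w ∈ closure {p.1, p.2 * p.1 * p.2⁻¹}, w ∉ E i} : ℝ) ≤
        (Nat.card T : ℝ) ^ 2 * (w * (2 * (1 / R j))) := by
    intro i j
    have e1 : (Nat.card {p : T × T // (∃ g : T, ∀ z ∈ Z j, g * z * g⁻¹ ∈ zpowers p.1) ∧
        ∀ w ∈ closure {p.1, p.2 * p.1 * p.2⁻¹}, w ∉ E i} : ℝ) ≤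
        (Nat.card T : ℝ) * Nat.card {x : T // ∀ t ∈ Z j, x * t ∉ E i} := by
      exact_mod_cast pairs_le (hE1' i) (Z j)
    refine e1.trans ?_
    have e2 := miss_le (hE1' i) hw (hE2 i) (Z j) (hR j) (hZ j)
    calc (Nat.card T : ℝ) * Nat.card {x : T // ∀ t ∈ Z j, x * t ∉ E i} ≤
        Nat.card T * (Nat.card T * (w * (2 * (1 / R j)))) := mul_le_mul_of_nonneg_left e2 hG.le
      _ = _ := by ring
  have h4 : ∑ i : Fin n, ∑ j : ι, (Nat.card {p : T × T // (∃ g : T, ∀ z ∈ Z j, g * z * g⁻¹ ∈ zpowers p.1) ∧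
        ∀ w ∈ closure {p.1, p.2 * p.1 * p.2⁻¹}, w ∉ E i} : ℝ) ≤ n * ((Nat.card T : ℝ) ^ 2 * (w * (2 * κ))) := by
    have e1 : ∀ i : Fin n, ∑ j : ι, (Nat.card {p : T × T // (∃ g : T, ∀ z ∈ Z j, g * z * g⁻¹ ∈ zpowers p.1) ∧
        ∀ w ∈ closure {p.1, p.2 * p.1 * p.2⁻¹}, w ∉ E i} : ℝ) ≤ (Nat.card T : ℝ) ^ 2 * (w * (2 * κ)) := by
      intro i
      refine (Finset.sum_le_sum fun j _ => h3 i j).trans ?_
      rw [← Finset.mul_sum, ← Finset.mul_sum, ← Finset.mul_sum]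
      gcongr
    refine (Finset.sum_le_sum fun i _ => e1 i).trans ?_
    rw [Finset.sum_const, Finset.card_univ, Fintype.card_fin, nsmul_eq_mul]
  calc (missC T : ℝ) ≤ (ε * Nat.card T) * Nat.card T + n * ((Nat.card T : ℝ) ^ 2 * (w * (2 * κ))) :=
        h2.trans (add_le_add (mul_le_mul_of_nonneg_right hbad hG.le) h4)
    _ = _ := by ring

end One

theorem rk_le_dimOf (g : Grp) : rk g ≤ dimOf g := by
  cases g <;> first
    | exact le_rfl
    | exact Nat.le_mul_of_pos_left _ two_pos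
    | exact (Nat.le_mul_of_pos_left _ two_pos).trans (Nat.le_succ _)

theorem bigCl_of {g : Grp} (hg : H262.Rx.IsCl g) (h : 4 ≤ rk g) : BigCl g := by
  rcases hg with ⟨n, q, rfl⟩ | ⟨n, q, rfl⟩ | ⟨n, q, rfl⟩ | ⟨n, q, rfl⟩ | ⟨n, q, rfl⟩ | ⟨n, q, rfl⟩ <;>
    simp only [rk] at h <;> show _ ≤ n <;> omega

/-- the order of a group of large rank is large -/
theorem rank_le_card {g : Grp} {T : Type} [Group T] [Finite T] (hT : IsNamed g T) (hg : H262.Rx.IsCl g)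
    (h : 37 ≤ rk g) : rk g - 11 ≤ Nat.card T := by
  have hc : Cfsg.Agent.H278.El.SporNum.IsCl g := by
    rcases hg with ⟨n, q, rfl⟩ | ⟨n, q, rfl⟩ | ⟨n, q, rfl⟩ | ⟨n, q, rfl⟩ | ⟨n, q, rfl⟩ | ⟨n, q, rfl⟩
    · have h1 : 37 ≤ n := h
      show 3 ≤ n
      omega
    all_goals trivial
  have hd := rk_le_dimOf g
  obtain ⟨t, -, h2, -⟩ := Cfsg.Agent.H278.El.CrossNum.six hT.cond hc hT.eq (h.trans hd)
  obtain ⟨h3, h4, h5⟩ := h2 0 (by norm_num)
  have h6 := Nat.le_of_dvd Nat.card_pos h4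
  omega

/-- **S5715 in unbounded rank.** -/
theorem uc (hNF : FamNF fun g => BigCl g) (hL : LargeC BigCl) : UC H262.Rx.IsCl := by
  intro ε hε
  obtain ⟨C, D, hC, hD⟩ := hNF
  obtain ⟨N, hN⟩ := hL 3 (ε / 2) (by positivity)
  obtain ⟨k, hk1, hk⟩ := exists_nat_pow_two (16 * C ^ 2 / ε)
  refine ⟨N + D + 2 ^ k + 48, fun g T _ _ _ hT hg hr => ?_⟩
  have := Fintype.ofFinite T
  have hpow : 0 < 2 ^ k := by positivity
  have hb := bigCl_of hg (by omega)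
  have hcard := rank_le_card hT hg (by omega)
  obtain ⟨n, hn, hNFn⟩ := hD g T hT hb (by omega)
  have hmix := hN g T hT hb (by have := rk_le_dimOf g; omega)
  have hk2 : k ≤ Cfsg.Agent.H262.Rg.Asm.lg T := le_lg (by omega)
  set L : ℝ := (Cfsg.Agent.H262.Rg.Asm.lg T : ℝ) with hLdef
  have hkL : (k : ℝ) ≤ L := by
    rw [hLdef]
    exact_mod_cast hk2
  have hL1 : 1 ≤ L := le_trans (by exact_mod_cast hk1) hkL
  have hL2 : 16 * C ^ 2 / ε ≤ L := hk.trans hkL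
  have hlog : H141.Rg.lg T ≤ L + 1 := log_le T
  have hlog' : H141.Rg.lg T ≤ 2 * L := by linarith
  have hpos : 0 < H141.Rg.lg T := by
    have := le_log T
    have : L / 2 ≤ H141.Rg.lg T := this
    linarith
  have h1 := missC_le (mul_pos hC hpos) hNFn hmix
  refine h1.trans (mul_le_mul_of_nonneg_right ?_ (by positivity))
  have h2 : (n : ℝ) * (C * H141.Rg.lg T * (2 * (1 / L ^ 3))) ≤ (C * (2 * L)) * (C * (2 * L) * (2 * (1 / L ^ 3))) := by
    have h3 : (n : ℝ) ≤ C * (2 * L) := hn.trans (mul_le_mul_of_nonneg_left hlog' hC.le)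
    have h4 : C * H141.Rg.lg T ≤ C * (2 * L) := mul_le_mul_of_nonneg_left hlog' hC.le
    have h5 : (0 : ℝ) ≤ 2 * (1 / L ^ 3) := by positivity
    exact mul_le_mul h3 (mul_le_mul_of_nonneg_right h4 h5) (by positivity) (by positivity)
  have h3 : (C * (2 * L)) * (C * (2 * L) * (2 * (1 / L ^ 3))) = 8 * C ^ 2 / L := by
    field_simp
    ring
  have h4 : 8 * C ^ 2 / L ≤ ε / 2 := by
    rw [div_le_iff₀ (by positivity)]
    rw [div_le_iff₀ hε] at hL2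
    linarith
  linarith

end Cfsg.Agent.H94.RG.U
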